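import Groth.Prelude.Def_W4c3dlvarstrshPar
import Mathlib

/-!
Pivots of flags: minimal representatives of the cosets of standard parabolic subgroups of `GL_{m+1}`.
-/

noncomputable section

open scoped Classical
open Matrix W4c3dlvarstrsh

namespace Groth.Agent.ParabolicLib

variable {F : Type*} [Field F] {m : ℕ}

section Piv

variable {n : ℕ}

/-- the set of positions of top nonzero entries of vectors of `V` -/
def piv (V : Submodule F (Fin n → F)) : Finset (Fin n) :=
  Finset.univ.filter fun j => ∃ v ∈ V, v j ≠ 0 ∧ ∀ l, j < l → v l = 0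

lemma mem_piv {V : Submodule F (Fin n → F)} {j : Fin n} :
    j ∈ piv V ↔ ∃ v ∈ V, v j ≠ 0 ∧ ∀ l, j < l → v l = 0 := by
  simp [piv]

lemma piv_mono {V V' : Submodule F (Fin n → F)} (h : V ≤ V') : piv V ⊆ piv V' := fun j hj => by
  obtain ⟨v, hv, h1⟩ := mem_piv.1 hj
  exact mem_piv.2 ⟨v, h hv, h1⟩

lemma exists_top {v : Fin n → F} (hv : v ≠ 0) : ∃ j, v j ≠ 0 ∧ ∀ l, j < l → v l = 0 := by
  have hne : (Finset.univ.filter fun j => v j ≠ 0).Nonempty := by
    obtain ⟨j, hj⟩ := Function.ne_iff.1 hv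
    exact ⟨j, by simpa using hj⟩
  refine ⟨_, (Finset.mem_filter.1 (Finset.max'_mem _ hne)).2, fun l hl => ?_⟩
  by_contra h
  exact absurd (Finset.le_max' (Finset.univ.filter fun j => v j ≠ 0) l (by simpa using h)) (not_le.2 hl)

lemma mem_of_piv {V V' : Submodule F (Fin n → F)} (hle : V ≤ V') : ∀ (b : ℕ),
    (∀ j : Fin n, (j : ℕ) < b → j ∈ piv V' → j ∈ piv V) →
    ∀ x ∈ V', (∀ l : Fin n, b ≤ (l : ℕ) → x l = 0) → x ∈ V := by
  intro b
  induction b with
  | zero =>
    intro _ x _ hx
    rw [show x = 0 from funext fun l => hx l (Nat.zero_le _)]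
    exact zero_mem V
  | succ b ih =>
    intro hp x hxV hx
    by_cases hb : ∃ l : Fin n, (l : ℕ) = b ∧ x l ≠ 0
    · obtain ⟨l, hl, hxl⟩ := hb
      obtain ⟨v, hv, hvl, hvz⟩ := mem_piv.1 (hp l (by omega)
        (mem_piv.2 ⟨x, hxV, hxl, fun k hk => hx k (by rw [Fin.lt_def] at hk; omega)⟩))
      have hmem : x - (x l / v l) • v ∈ V := by
        refine ih (fun j hj => hp j (by omega)) _ (V'.sub_mem hxV (V'.smul_mem _ (hle hv))) fun k hk => ?_
        rcases eq_or_lt_of_le hk with he | hlt
        · have : k = l := Fin.ext (by omega)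
          subst this
          simp [div_mul_cancel₀ _ hvl]
        · have : l < k := by rw [Fin.lt_def]; omega
          simp [hx k hlt, hvz k this]
      have := V.add_mem hmem (V.smul_mem (x l / v l) hv)
      simpa using this
    · push Not at hb
      refine ih (fun j hj => hp j (by omega)) x hxV fun k hk => ?_
      rcases eq_or_lt_of_le hk with he | hlt
      · exact hb k he.symm
      · exact hx k hlt

lemma eq_of_piv {V V' : Submodule F (Fin n → F)} (hle : V ≤ V') (h : piv V' ⊆ piv V) : V = V' :=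
  le_antisymm hle fun x hx =>
    mem_of_piv hle n (fun _ _ hj => h hj) x hx fun l hl => absurd l.2 (by omega)

lemma card_piv (V : Submodule F (Fin n → F)) : (piv V).card = Module.finrank F V := by
  apply le_antisymm
  · choose v hv hvj hvz using fun j : piv V => mem_piv.1 j.2
    have hli : LinearIndependent F (fun j : piv V => (⟨v j, hv j⟩ : V)) := by
      rw [Fintype.linearIndependent_iff]
      intro c hc
      by_contra h
      push Not at h
      obtain ⟨j0, hj0⟩ := h
      have hne : (Finset.univ.filter fun j : piv V => c j ≠ 0).Nonempty := ⟨j0, by simpa using hj0⟩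
      set j := (Finset.univ.filter fun j : piv V => c j ≠ 0).max' hne with hj
      have hcj : c j ≠ 0 := (Finset.mem_filter.1 (Finset.max'_mem _ hne)).2
      have h0 := congr_fun (congrArg Subtype.val hc) j.1
      simp only [Submodule.coe_sum, Submodule.coe_smul, Finset.sum_apply, Pi.smul_apply,
        smul_eq_mul, ZeroMemClass.coe_zero, Pi.zero_apply] at h0
      rw [Finset.sum_eq_single j] at h0
      · exact (mul_ne_zero hcj (hvj j)) h0
      · intro i _ hij
        by_cases hci : c i = 0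
        · simp [hci]
        have : i < j := lt_of_le_of_ne (Finset.le_max' _ i (by simpa using hci)) hij
        rw [hvz i j.1 this, mul_zero]
      · simp
    simpa using hli.fintype_card_le_finrank
  · let f : V →ₗ[F] (piv V → F) := LinearMap.pi fun j => (LinearMap.proj j.1).comp V.subtype
    have hf : Function.Injective f := by
      rw [injective_iff_map_eq_zero]
      intro x hx
      by_contra hne
      obtain ⟨j, hj, hjz⟩ := exists_top (v := (x : Fin n → F)) (fun h => hne (Subtype.ext h))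
      exact hj (congr_fun hx ⟨j, mem_piv.2 ⟨x, x.2, hj, hjz⟩⟩)
    simpa using LinearMap.finrank_le_finrank_of_injective hf

end Piv

/-- standard flag -/
def E (c : ℕ) : Submodule F (Fin (m + 1) → F) where
  carrier := {x | ∀ l : Fin (m + 1), c ≤ (l : ℕ) → x l = 0}
  zero_mem' := fun _ _ => rfl
  add_mem' := fun hx hy l hl => by simp [hx l hl, hy l hl]
  smul_mem' := fun a x hx l hl => by simp [hx l hl]

lemma mem_E {c : ℕ} {x : Fin (m + 1) → F} :
    x ∈ E (F := F) (m := m) c ↔ ∀ l : Fin (m + 1), c ≤ (l : ℕ) → x l = 0 := Iff.rfl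

lemma card_piv_E {c : ℕ} (hc : c ≤ m + 1) : (piv (E (F := F) (m := m) c)).card = c := by
  have : piv (E (F := F) (m := m) c) = Finset.univ.filter fun j : Fin (m + 1) => (j : ℕ) < c := by
    ext j
    rw [mem_piv, Finset.mem_filter]
    constructor
    · rintro ⟨v, hv, hvj, -⟩
      exact ⟨Finset.mem_univ _, not_le.1 fun h => hvj (hv j h)⟩
    · rintro ⟨-, hj⟩
      refine ⟨Pi.single j 1, fun l hl => ?_, by simp, fun l hl => ?_⟩
      · exact Pi.single_eq_of_ne (fun h => by subst h; omega) _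
      · exact Pi.single_eq_of_ne hl.ne' _
  rw [this, Fin.card_filter_val_lt, min_eq_right hc]

/-- flag of an invertible matrix -/
def V (g : GL (Fin (m + 1)) F) (c : ℕ) : Submodule F (Fin (m + 1) → F) :=
  (E c).comap ((g⁻¹ : GL (Fin (m + 1)) F) : Matrix (Fin (m + 1)) (Fin (m + 1)) F).mulVecLin

lemma mem_V {g : GL (Fin (m + 1)) F} {c : ℕ} {x : Fin (m + 1) → F} :
    x ∈ V g c ↔ ((g⁻¹ : GL (Fin (m + 1)) F) : Matrix (Fin (m + 1)) (Fin (m + 1)) F) *ᵥ x ∈ E c :=
  Iff.rfl

lemma mulVec_inv_cancel (g : GL (Fin (m + 1)) F) (y : Fin (m + 1) → F) :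
    ((g⁻¹ : GL (Fin (m + 1)) F) : Matrix (Fin (m + 1)) (Fin (m + 1)) F) *ᵥ
      ((g : Matrix (Fin (m + 1)) (Fin (m + 1)) F) *ᵥ y) = y := by
  rw [Matrix.mulVec_mulVec, ← Units.val_mul, inv_mul_cancel, Units.val_one, Matrix.one_mulVec]

lemma mulVec_cancel (g : GL (Fin (m + 1)) F) (y : Fin (m + 1) → F) :
    (g : Matrix (Fin (m + 1)) (Fin (m + 1)) F) *ᵥ
      (((g⁻¹ : GL (Fin (m + 1)) F) : Matrix (Fin (m + 1)) (Fin (m + 1)) F) *ᵥ y) = y := by
  rw [Matrix.mulVec_mulVec, ← Units.val_mul, mul_inv_cancel, Units.val_one, Matrix.one_mulVec]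

lemma card_piv_V (g : GL (Fin (m + 1)) F) {c : ℕ} (hc : c ≤ m + 1) : (piv (V g c)).card = c := by
  rw [card_piv]
  refine Eq.trans ?_ ((card_piv (E (F := F) (m := m) c)).symm.trans (card_piv_E hc))
  exact LinearEquiv.finrank_eq
    { toFun := fun x => ⟨_, x.2⟩
      map_add' := fun x y => Subtype.ext (map_add (Matrix.mulVecLin _) _ _)
      map_smul' := fun a x => Subtype.ext (map_smul (Matrix.mulVecLin _) _ _)
      invFun := fun y => ⟨(g : Matrix (Fin (m + 1)) (Fin (m + 1)) F) *ᵥ (y : Fin (m + 1) → F), by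
        rw [mem_V, mulVec_inv_cancel]; exact y.2⟩
      left_inv := fun x => Subtype.ext (mulVec_cancel g _)
      right_inv := fun y => Subtype.ext (mulVec_inv_cancel g _) }

lemma V_mono (g : GL (Fin (m + 1)) F) {c d : ℕ} (h : c ≤ d) : V g c ≤ V g d :=
  fun _ hx l hl => hx l (le_trans h hl)

/-- `c` is a cut for the set `J` of reflections -/
def IsCut (J : Finset (Fin m)) (c : ℕ) : Prop := ∀ k : Fin m, (k : ℕ) + 1 = c → k ∉ J

lemma parabolic_zero {J : Finset (Fin m)} {p : GL (Fin (m + 1)) F} (hp : p ∈ parabolic F J)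
    {c : ℕ} (hc : IsCut J c) {j l : Fin (m + 1)} (hj : (j : ℕ) < c) (hl : c ≤ (l : ℕ)) :
    (p : Matrix (Fin (m + 1)) (Fin (m + 1)) F) l j = 0 := by
  refine hp ?_
  show blockOf J j < blockOf J l
  apply Finset.card_lt_card
  rw [Finset.ssubset_iff_of_subset]
  · refine ⟨⟨c - 1, by omega⟩, ?_, ?_⟩
    · simp only [Finset.mem_filter, Finset.mem_univ, true_and]
      exact ⟨by omega, hc _ (by simp only; omega)⟩
    · simp only [Finset.mem_filter, Finset.mem_univ, true_and, not_and]
      intro h; omega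
  · intro k
    simp only [Finset.mem_filter, Finset.mem_univ, true_and]
    rintro ⟨h1, h2⟩
    exact ⟨by omega, h2⟩

lemma mulVec_mem_E {J : Finset (Fin m)} {p : GL (Fin (m + 1)) F} (hp : p ∈ parabolic F J)
    {c : ℕ} (hc : IsCut J c) {y : Fin (m + 1) → F} (hy : y ∈ E c) :
    (p : Matrix (Fin (m + 1)) (Fin (m + 1)) F) *ᵥ y ∈ E c := by
  intro l hl
  show ∑ j, (p : Matrix (Fin (m + 1)) (Fin (m + 1)) F) l j * y j = 0
  refine Finset.sum_eq_zero fun j _ => ?_
  by_cases hj : (j : ℕ) < c
  · show (p : Matrix (Fin (m + 1)) (Fin (m + 1)) F) l j * y j = 0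
    rw [parabolic_zero hp hc hj hl, zero_mul]
  · show (p : Matrix (Fin (m + 1)) (Fin (m + 1)) F) l j * y j = 0
    rw [hy j (not_lt.1 hj), mul_zero]

lemma V_mul_of_cut {J : Finset (Fin m)} {p : GL (Fin (m + 1)) F} (hp : p ∈ parabolic F J)
    (g : GL (Fin (m + 1)) F) {c : ℕ} (hc : IsCut J c) : V (g * p) c = V g c := by
  ext x
  rw [mem_V, mem_V, _root_.mul_inv_rev, Units.val_mul, ← Matrix.mulVec_mulVec]
  constructor
  · intro h
    have := mulVec_mem_E hp hc h
    rwa [mulVec_cancel] at this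
  · intro h
    exact mulVec_mem_E (inv_mem hp) hc h

lemma isCut_empty (c : ℕ) : IsCut (∅ : Finset (Fin m)) c := fun _ _ => Finset.notMem_empty _

lemma V_mul_borel {p : GL (Fin (m + 1)) F} (hp : p ∈ parabolic F (∅ : Finset (Fin m)))
    (g : GL (Fin (m + 1)) F) (c : ℕ) : V (g * p) c = V g c := V_mul_of_cut hp g (isCut_empty c)

lemma mem_borel_of_V_eq {g p : GL (Fin (m + 1)) F} (h : ∀ c, c ≤ m + 1 → V (g * p) c = V g c) :
    p ∈ parabolic F (∅ : Finset (Fin m)) := by
  intro l j hlt
  have hjl : (j : ℕ) < (l : ℕ) := by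
    by_contra hle
    rw [not_lt] at hle
    refine absurd hlt (not_lt.2 (Finset.card_le_card fun k => ?_))
    simp only [Finset.mem_filter, Finset.mem_univ, true_and, Finset.notMem_empty, not_false_eq_true,
      and_true]
    omega
  have hx : ((g * p : GL (Fin (m + 1)) F) : Matrix (Fin (m + 1)) (Fin (m + 1)) F) *ᵥ Pi.single j 1 ∈
      V g ((j : ℕ) + 1) := by
    rw [← h _ (by omega), mem_V, mulVec_inv_cancel]
    intro k hk
    exact Pi.single_eq_of_ne (fun e => by subst e; omega) _
  have := hx l (by omega)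
  rw [Units.val_mul, ← Matrix.mulVec_mulVec, Matrix.mulVecLin_apply, mulVec_inv_cancel,
    Matrix.mulVec_single_one] at this
  exact this

/-- the pivot added in column `c` -/
def w (g : GL (Fin (m + 1)) F) (c : ℕ) : ℕ :=
  ∑ j ∈ piv (V g (c + 1)) \ piv (V g c), (j : ℕ)

lemma exists_w (g : GL (Fin (m + 1)) F) {c : ℕ} (hc : c < m + 1) :
    ∃ u : Fin (m + 1), piv (V g (c + 1)) = insert u (piv (V g c)) ∧ u ∉ piv (V g c) ∧ w g c = (u : ℕ) := by
  have hsub := piv_mono (V_mono g (Nat.le_succ c))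
  have hcard : (piv (V g (c + 1)) \ piv (V g c)).card = 1 := by
    rw [Finset.card_sdiff_of_subset hsub, card_piv_V g (by omega : c + 1 ≤ m + 1), card_piv_V g (by omega)]
    omega
  obtain ⟨u, hu⟩ := Finset.card_eq_one.1 hcard
  refine ⟨u, ?_, ?_, by rw [w, hu, Finset.sum_singleton]⟩
  · rw [Finset.insert_eq, ← hu, Finset.sdiff_union_of_subset hsub]
  · have : u ∈ piv (V g (c + 1)) \ piv (V g c) := by rw [hu]; exact Finset.mem_singleton_self _
    exact (Finset.mem_sdiff.1 this).2

/-- height -/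
def height (g : GL (Fin (m + 1)) F) : ℕ :=
  ∑ c ∈ Finset.range (m + 2), ∑ j ∈ piv (V g c), (j : ℕ)

lemma height_le (g : GL (Fin (m + 1)) F) : height g < (m + 2) ^ 3 := by
  have h1 : ∀ c, ∑ j ∈ piv (V g c), (j : ℕ) ≤ (m + 1) * (m + 1) := fun c => by
    refine le_trans (Finset.sum_le_card_nsmul _ _ (m + 1) fun j _ => j.2.le) ?_
    rw [smul_eq_mul]
    refine Nat.mul_le_mul_right _ ?_
    simpa using (piv (V g c)).card_le_univ
  refine lt_of_le_of_lt (Finset.sum_le_card_nsmul _ _ _ fun c _ => h1 c) ?_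
  rw [Finset.card_range, smul_eq_mul]
  calc (m + 2) * ((m + 1) * (m + 1)) < (m + 2) * ((m + 2) * (m + 2)) :=
        Nat.mul_lt_mul_of_pos_left (Nat.mul_lt_mul'' (by omega) (by omega)) (by omega)
    _ = (m + 2) ^ 3 := by ring

/-- increasing pivots inside every block of `J` -/
def Good (J : Finset (Fin m)) (g : GL (Fin (m + 1)) F) : Prop :=
  ∀ k ∈ J, w g (k : ℕ) < w g ((k : ℕ) + 1)

lemma V_eq_of_good {J : Finset (Fin m)} {g p : GL (Fin (m + 1)) F} (hp : p ∈ parabolic F J)
    (hg : Good J g) (hgp : Good J (g * p)) : ∀ c, c ≤ m + 1 → V (g * p) c = V g c := by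
  intro c
  induction c with
  | zero => intro _; exact V_mul_of_cut hp g fun k hk => by omega
  | succ c ih =>
    intro hc
    have hc' := ih (by omega)
    by_cases hcut : IsCut J (c + 1)
    · exact V_mul_of_cut hp g hcut
    have hex : ∃ d, c + 1 ≤ d ∧ d ≤ m + 1 ∧ IsCut J d := ⟨m + 1, hc, le_rfl, fun k hk => by omega⟩
    let d := Nat.find hex
    obtain ⟨hcd, hdm, hd⟩ := Nat.find_spec hex
    have hinc : ∀ (x : GL (Fin (m + 1)) F), Good J x → ∀ e, c + 1 ≤ e → e ≤ d →
        w x c ≤ w x (e - 1) ∧ ∀ j ∈ piv (V x e), j ∈ piv (V x c) ∨ w x c ≤ (j : ℕ) := by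
      intro x hx e
      induction e with
      | zero => omega
      | succ e ihe =>
        intro he hed
        rcases eq_or_lt_of_le he with heq | hlt
        · obtain rfl : c = e := by omega
          refine ⟨le_rfl, fun j hj => ?_⟩
          obtain ⟨u, hu, -, hwu⟩ := exists_w x (show c < m + 1 by omega)
          rw [hu, Finset.mem_insert] at hj
          rcases hj with rfl | hj
          · exact Or.inr hwu.le
          · exact Or.inl hj
        · obtain ⟨h1, h2⟩ := ihe (by omega) (by omega)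
          have hnc : ¬ IsCut J e := fun hh => Nat.find_min hex (show e < d by omega) ⟨by omega, by omega, hh⟩
          simp only [IsCut, not_forall, not_not] at hnc
          obtain ⟨k, hk, hkJ⟩ := hnc
          have h3 := hx k hkJ
          have hke : (k : ℕ) = e - 1 := by omega
          rw [hke, show e - 1 + 1 = e by omega] at h3
          have h4 : w x c ≤ w x e := le_trans h1 h3.le
          refine ⟨by simpa using h4, fun j hj => ?_⟩
          obtain ⟨u, hu, -, hwu⟩ := exists_w x (show e < m + 1 by omega)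
          rw [hu, Finset.mem_insert] at hj
          rcases hj with rfl | hj
          · exact Or.inr (hwu ▸ h4)
          · exact h2 j hj
    have hVd : V (g * p) d = V g d := V_mul_of_cut hp g hd
    obtain ⟨u, hu, hun, hwu⟩ := exists_w g (show c < m + 1 by omega)
    obtain ⟨u', hu', hun', hwu'⟩ := exists_w (g * p) (show c < m + 1 by omega)
    rw [hc'] at hu' hun'
    have h1 : ∀ j ∈ piv (V g d), j ∈ piv (V g c) ∨ w g c ≤ (j : ℕ) := (hinc g hg d hcd le_rfl).2
    have h2 : ∀ j ∈ piv (V g d), j ∈ piv (V g c) ∨ w (g * p) c ≤ (j : ℕ) := by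
      have := (hinc (g * p) hgp d hcd le_rfl).2
      rwa [hVd, hc'] at this
    have humem : u ∈ piv (V g d) := piv_mono (V_mono g hcd) (by rw [hu]; exact Finset.mem_insert_self _ _)
    have hu'mem : u' ∈ piv (V g d) := by
      rw [← hVd]
      exact piv_mono (V_mono (g * p) hcd) (by rw [hu']; exact Finset.mem_insert_self _ _)
    have e1 := (h1 u' hu'mem).resolve_left hun'
    have e2 := (h2 u humem).resolve_left hun
    rw [hwu] at e1
    rw [hwu'] at e2
    have huu : u = u' := Fin.ext (le_antisymm e1 e2)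
    obtain ⟨v, hv, hvu, hvz⟩ := mem_piv.1 (show u' ∈ piv (V (g * p) (c + 1)) by
      rw [hu']; exact Finset.mem_insert_self _ _)
    have hvg : v ∈ V g (c + 1) := by
      refine mem_of_piv (V_mono g hcd) ((u' : ℕ) + 1) (fun j hj hjd => ?_) v
        (by rw [← hVd]; exact V_mono (g * p) hcd hv) (fun l hl => hvz l (by rw [Fin.lt_def]; omega))
      rw [hu]
      rcases h1 j hjd with hj' | hj'
      · exact Finset.mem_insert_of_mem hj'
      · refine Finset.mem_insert.2 (Or.inl (Fin.ext ?_))
        rw [← huu] at hj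
        rw [hwu] at hj'
        omega
    have hW : V (g * p) c ⊔ Submodule.span F {v} = V (g * p) (c + 1) := by
      refine eq_of_piv (sup_le (V_mono _ (Nat.le_succ c)) (by simpa using hv)) ?_
      rw [hu']
      intro j hj
      rcases Finset.mem_insert.1 hj with rfl | hj
      · exact mem_piv.2 ⟨v, Submodule.mem_sup_right (Submodule.mem_span_singleton_self v), hvu, hvz⟩
      · rw [← hc'] at hj
        exact piv_mono le_sup_left hj
    refine eq_of_piv ?_ ?_
    · rw [← hW, hc']
      exact sup_le (V_mono g (Nat.le_succ c)) (by simpa using hvg)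
    · rw [hu, hu', huu]

lemma exists_descent {J : Finset (Fin m)} {g : GL (Fin (m + 1)) F} {k : Fin m} (hk : k ∈ J)
    (hw : ¬ w g (k : ℕ) < w g ((k : ℕ) + 1)) :
    ∃ p ∈ parabolic F J, height (g * p) < height g := by
  obtain ⟨u₁, hu₁, hu₁n, hw₁⟩ := exists_w g (show (k : ℕ) < m + 1 by omega)
  obtain ⟨u₂, hu₂, hu₂n, hw₂⟩ := exists_w g (show (k : ℕ) + 1 < m + 1 by omega)
  have hne : u₂ ≠ u₁ := fun e => hu₂n (by rw [hu₁, e]; exact Finset.mem_insert_self _ _)
  have hlt : (u₂ : ℕ) < (u₁ : ℕ) := by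
    rw [hw₁, hw₂, not_lt] at hw
    exact lt_of_le_of_ne hw fun e => hne (Fin.ext e)
  obtain ⟨v, hv, hvu, hvz⟩ := mem_piv.1 (show u₂ ∈ piv (V g ((k : ℕ) + 1 + 1)) by
    rw [hu₂]; exact Finset.mem_insert_self _ _)
  let c : Fin (m + 1) → F := ((g⁻¹ : GL (Fin (m + 1)) F) : Matrix (Fin (m + 1)) (Fin (m + 1)) F) *ᵥ v
  have hcE : c ∈ E ((k : ℕ) + 1 + 1) := hv
  have hc1 : c k.succ ≠ 0 := by
    intro h0
    have hmem : v ∈ V g ((k : ℕ) + 1) := fun l hl => by
      rcases eq_or_lt_of_le hl with he | hlt'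
      · have : l = k.succ := Fin.ext (by simp [← he])
        subst this
        exact h0
      · exact hcE l hlt'
    exact hu₂n (mem_piv.2 ⟨v, hmem, hvu, hvz⟩)
  let σ : Equiv.Perm (Fin (m + 1)) := Equiv.swap k.castSucc k.succ
  let M : Matrix (Fin (m + 1)) (Fin (m + 1)) F := (1 : Matrix _ _ F).updateCol k.castSucc (c ∘ σ)
  let P : Matrix (Fin (m + 1)) (Fin (m + 1)) F := M.submatrix σ id
  have hdet : P.det ≠ 0 := by
    have hM : M.det = c k.succ := by
      show ((1 : Matrix (Fin (m + 1)) (Fin (m + 1)) F).updateCol k.castSucc (c ∘ σ)).det = _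
      rw [← Matrix.cramer_apply, Matrix.cramer_one]
      simp [σ, Module.End.one_apply]
    rw [Matrix.det_permute, hM]
    rw [show Equiv.Perm.sign σ = -1 from Equiv.Perm.sign_swap k.castSucc_lt_succ.ne]
    simp [hc1]
  let p : GL (Fin (m + 1)) F := Matrix.GeneralLinearGroup.mkOfDetNeZero P hdet
  have hP : ∀ l j, P l j = if j = k.castSucc then c l else if σ l = j then 1 else 0 := by
    intro l j
    simp only [P, M, Matrix.submatrix_apply, id, Matrix.updateCol_apply, Function.comp, Matrix.one_apply]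
    split_ifs <;> simp_all [σ]
  have hp : p ∈ parabolic F ({k} : Finset (Fin m)) := by
    intro l j hlj
    show P l j = 0
    have hjl : (j : ℕ) < (l : ℕ) := by
      by_contra hle
      rw [not_lt] at hle
      refine absurd hlj (not_lt.2 (Finset.card_le_card fun i => ?_))
      simp only [Finset.mem_filter, Finset.mem_univ, true_and]
      rintro ⟨h1, h2⟩; exact ⟨by omega, h2⟩
    have hnot : ¬ ((j : ℕ) = (k : ℕ) ∧ (l : ℕ) = (k : ℕ) + 1) := by
      rintro ⟨hj, hl⟩
      refine absurd hlj (not_lt.2 (Finset.card_le_card fun i => ?_))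
      simp only [Finset.mem_filter, Finset.mem_univ, true_and, Finset.mem_singleton]
      rintro ⟨h1, h2⟩
      exact ⟨by have : (i : ℕ) ≠ (k : ℕ) := fun e => h2 (Fin.ext e); omega, h2⟩
    rw [hP]
    split_ifs with h1 h2
    · subst h1
      refine hcE l ?_
      simp only [Fin.val_castSucc] at hjl hnot
      have : (l : ℕ) ≠ (k : ℕ) + 1 := fun e => hnot ⟨trivial, e⟩
      omega
    · exfalso
      by_cases hl1 : l = k.castSucc
      · subst hl1
        simp [σ] at h2
        subst h2
        simp at hjl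
      by_cases hl2 : l = k.succ
      · subst hl2
        simp [σ] at h2
        exact h1 h2.symm
      rw [Equiv.swap_apply_of_ne_of_ne hl1 hl2] at h2
      subst h2
      omega
    · rfl
  refine ⟨p, ?_, ?_⟩
  · intro l j hlj
    refine hp ?_
    show blockOf {k} j < blockOf {k} l
    apply Finset.card_lt_card
    rw [Finset.ssubset_iff_of_subset]
    · have hlt' : blockOf J j < blockOf J l := hlj
      obtain ⟨i, hi, hi'⟩ := Finset.not_subset.1 fun hs => absurd hlt' (not_lt.2 (Finset.card_le_card hs))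
      simp only [Finset.mem_filter, Finset.mem_univ, true_and] at hi hi'
      refine ⟨i, ?_, ?_⟩
      · simp only [Finset.mem_filter, Finset.mem_univ, true_and, Finset.mem_singleton]
        exact ⟨hi.1, fun e => hi.2 (e ▸ hk)⟩
      · simp only [Finset.mem_filter, Finset.mem_univ, true_and, not_and]
        intro h; exact absurd ⟨h, hi.2⟩ hi'
    · intro i
      simp only [Finset.mem_filter, Finset.mem_univ, true_and]
      rintro ⟨h1, h2⟩
      have hlt' : blockOf J j < blockOf J l := hlj
      have hjl : (j : ℕ) ≤ (l : ℕ) := by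
        by_contra hgt
        rw [not_le] at hgt
        refine absurd hlt' (not_lt.2 (Finset.card_le_card fun i => ?_))
        simp only [Finset.mem_filter, Finset.mem_univ, true_and]
        rintro ⟨a, b⟩; exact ⟨by omega, b⟩
      exact ⟨by omega, h2⟩
  have hVc : ∀ e, e ≠ (k : ℕ) + 1 → V (g * p) e = V g e := fun e he =>
    V_mul_of_cut hp g fun i hi hik => he (by rw [Finset.mem_singleton] at hik; rw [← hi, hik])
  have hvp : v ∈ V (g * p) ((k : ℕ) + 1) := by
    have hpe : (p : Matrix (Fin (m + 1)) (Fin (m + 1)) F) *ᵥ Pi.single k.castSucc 1 = c := by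
      rw [Matrix.mulVec_single_one]
      funext l
      show P l k.castSucc = c l
      rw [hP, if_pos rfl]
    have : v = ((g * p : GL (Fin (m + 1)) F) : Matrix (Fin (m + 1)) (Fin (m + 1)) F) *ᵥ Pi.single k.castSucc 1 := by
      rw [Units.val_mul, ← Matrix.mulVec_mulVec, hpe, mulVec_cancel]
    rw [this, mem_V, mulVec_inv_cancel]
    intro l hl
    exact Pi.single_eq_of_ne (fun e => by subst e; simp at hl) _
  have hpiv : piv (V (g * p) ((k : ℕ) + 1)) = insert u₂ (piv (V g k)) := by
    refine (Finset.eq_of_subset_of_card_le (Finset.insert_subset (mem_piv.2 ⟨v, hvp, hvu, hvz⟩) ?_) ?_).symm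
    · rw [← hVc k (by omega)]
      exact piv_mono (V_mono _ (Nat.le_succ _))
    · rw [card_piv_V _ (by omega), Finset.card_insert_of_notMem, card_piv_V _ (by omega)]
      exact fun h => hu₂n (piv_mono (V_mono g (Nat.le_succ _)) h)
  refine Finset.sum_lt_sum (fun e _ => ?_) ⟨(k : ℕ) + 1, Finset.mem_range.2 (by omega), ?_⟩
  · by_cases he : e = (k : ℕ) + 1
    · subst he
      rw [hpiv, hu₁, Finset.sum_insert hu₁n, Finset.sum_insert
        (fun h => hu₂n (piv_mono (V_mono g (Nat.le_succ _)) h))]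
      omega
    · rw [hVc e he]
  · rw [hpiv, hu₁, Finset.sum_insert hu₁n, Finset.sum_insert
      (fun h => hu₂n (piv_mono (V_mono g (Nat.le_succ _)) h))]
    omega

lemma height_mul_borel {p : GL (Fin (m + 1)) F} (hp : p ∈ parabolic F (∅ : Finset (Fin m)))
    (g : GL (Fin (m + 1)) F) : height (g * p) = height g := by
  simp only [height, V_mul_borel hp]

lemma good_mul_borel {p : GL (Fin (m + 1)) F} (hp : p ∈ parabolic F (∅ : Finset (Fin m)))
    (J : Finset (Fin m)) (g : GL (Fin (m + 1)) F) : Good J (g * p) ↔ Good J g := by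
  simp only [Good, w, V_mul_borel hp]

lemma exists_good (J : Finset (Fin m)) (g : GL (Fin (m + 1)) F) :
    ∃ p ∈ parabolic F J, Good J (g * p) ∧ height (g * p) ≤ height g := by
  suffices ∀ n (g : GL (Fin (m + 1)) F), height g ≤ n →
      ∃ p ∈ parabolic F J, Good J (g * p) ∧ height (g * p) ≤ height g from this _ g le_rfl
  intro n
  induction n using Nat.strong_induction_on with
  | _ n ih =>
    intro g hg
    by_cases hgood : Good J g
    · exact ⟨1, one_mem _, by rw [mul_one]; exact hgood, by rw [mul_one]⟩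
    simp only [Good, not_forall] at hgood
    obtain ⟨k, hk, hw⟩ := hgood
    obtain ⟨p, hp, hlt⟩ := exists_descent hk hw
    obtain ⟨q, hq, h1, h2⟩ := ih (height (g * p)) (by omega) (g * p) le_rfl
    exact ⟨p * q, mul_mem hp hq, by rwa [← mul_assoc], by rw [← mul_assoc]; omega⟩

lemma good_unique {J : Finset (Fin m)} {g p : GL (Fin (m + 1)) F} (hp : p ∈ parabolic F J)
    (hg : Good J g) (hgp : Good J (g * p)) : p ∈ parabolic F (∅ : Finset (Fin m)) :=
  mem_borel_of_V_eq (V_eq_of_good hp hg hgp)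

end Groth.Agent.ParabolicLib
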